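import Groth.Agent.LC.DTExact
import Mathlib.AlgebraicGeometry.FunctionField
import Mathlib.AlgebraicGeometry.Morphisms.ClosedImmersion

/-! An affine open of `Spec D`, `D` a Noetherian domain, has complement of codimension `≤ 1`. -/

set_option autoImplicit false
set_option linter.style.haveILetI false

universe u

open CategoryTheory AlgebraicGeometry Opposite

namespace Groth.Agent.AffCompl97

/-- Enough sections make the ideal transform exact. -/
theorem smul_top_of_family {D : Type u} [CommRing D] [IsNoetherianRing D] {K : Type u} [CommRing K]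
    (ι : D →+* K) (hι : Function.Injective ι) (I : Ideal D) {n : ℕ} (f : Fin n → D) (hf : ∀ j, f j ∈ I)
    (β : Fin n → K) (hsum : ∑ j, ι (f j) * β j = 1)
    (hclear : ∀ j, ∃ N : ℕ, ∀ x ∈ I ^ N, ι x * β j ∈ ι.range) :
    I • (⊤ : Submodule D (LocCoh.DT I D)) = ⊤ := by
  classical
  choose N hN using hclear
  refine top_unique fun s _ => ?_
  obtain ⟨m, ψ, rfl⟩ := LC.exists_toD I s
  set M := m + ∑ j, N j with hM
  have hval : ∀ j, ∀ z : ↥(I ^ M), ∃ d : D, ι d = ι (ψ.hom ((LC.pMap I (Nat.le_add_right m _)).hom z)) * β j := by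
    intro j z
    obtain ⟨z, hz⟩ := z
    have hz' : z ∈ I ^ N j * I ^ m := by
      rw [← pow_add]
      refine Ideal.pow_le_pow_right ?_ hz
      have := Finset.single_le_sum (f := N) (fun i _ => Nat.zero_le _) (Finset.mem_univ j)
      omega
    obtain ⟨hzm, d, hd⟩ : ∃ hzm : z ∈ I ^ m, ∃ d : D, ι d = ι (ψ.hom ⟨z, hzm⟩) * β j := by
      refine Submodule.mul_induction_on hz' (fun u hu v hv => ?_) ?_
      · obtain ⟨d, hd⟩ := hN j u hu
        refine ⟨Ideal.mul_mem_left _ _ hv, d * ψ.hom ⟨v, hv⟩, ?_⟩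
        have h1 : (⟨u * v, Ideal.mul_mem_left _ _ hv⟩ : ↥(I ^ m)) = u • (⟨v, hv⟩ : ↥(I ^ m)) := rfl
        rw [h1, map_smul, smul_eq_mul, map_mul, map_mul, hd]
        ring
      · rintro a b ⟨ha, d, hd⟩ ⟨hb, d', hd'⟩
        refine ⟨add_mem ha hb, d + d', ?_⟩
        have h1 : (⟨a + b, add_mem ha hb⟩ : ↥(I ^ m)) = ⟨a, ha⟩ + ⟨b, hb⟩ := rfl
        rw [h1, map_add, map_add, map_add, hd, hd', add_mul]
    exact ⟨d, hd⟩
  choose g hg using hval
  have key : LC.pMap I (Nat.le_add_right m _) ≫ ψ = ∑ j, f j • ModuleCat.ofHom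
      ({ toFun := g j
         map_add' := fun a b => hι (by rw [hg, map_add, map_add, map_add, map_add, hg, hg, add_mul])
         map_smul' := fun r a => hι (by
           rw [hg, map_smul, map_smul, RingHom.id_apply, smul_eq_mul, smul_eq_mul, map_mul, map_mul, hg, mul_assoc]) } :
        ↥(I ^ M) →ₗ[D] D) := by
    refine ModuleCat.hom_ext (LinearMap.ext fun z => hι ?_)
    rw [ModuleCat.hom_sum, LinearMap.sum_apply, map_sum]
    calc ι (ψ.hom ((LC.pMap I (Nat.le_add_right m (∑ j, N j))).hom z))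
        = ι (ψ.hom ((LC.pMap I (Nat.le_add_right m (∑ j, N j))).hom z)) * ∑ j, ι (f j) * β j := by rw [hsum, mul_one]
      _ = ∑ j, ι (f j * g j z) := by
          rw [Finset.mul_sum]
          exact Finset.sum_congr rfl fun j _ => by rw [map_mul, hg, mul_left_comm]
      _ = _ := rfl
  rw [← LC.toD_res I (Nat.le_add_right m _) ψ, key, map_sum]
  refine Submodule.sum_mem _ fun j _ => ?_
  rw [map_smul]
  exact Submodule.smul_mem_smul (hf j) Submodule.mem_top

/-- The affine complement statement in a domain. -/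
theorem height_le_one_of_isDomain (D : CommRingCat.{u}) [IsDomain D] [IsNoetherianRing D]
    (U : (Spec D).Opens) (hU : IsAffineOpen U) (hne : Nonempty U) (I : Ideal D)
    (hI : (U : Set (Spec D)) = (PrimeSpectrum.zeroLocus (I : Set D))ᶜ)
    (p : Ideal D) (hp : p ∈ I.minimalPrimes) : p.height ≤ 1 := by
  classical
  refine LC.height_le_one_of_exact I ((LC.idealTransform_exact_iff_smul_top I).2 ?_) p hp
  let e : D →+* Γ(Spec D, ⊤) := (Scheme.ΓSpecIso D).inv.hom
  have heinj : Function.Injective e := (Scheme.ΓSpecIso D).symm.commRingCatIsoToRingEquiv.injective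
  let res : Γ(Spec D, ⊤) →+* Γ(Spec D, U) := ((Spec D).presheaf.map (homOfLE le_top).op).hom
  let η := genericPoint (Spec D)
  have hηU : η ∈ U := ((genericPoint_spec (Spec D)).mem_open_set_iff U.isOpen).2 (by simpa using hne)
  let ι : D →+* (Spec D).functionField := ((Spec D).presheaf.germ ⊤ η (TopologicalSpace.Opens.mem_top η)).hom.comp e
  have hι : Function.Injective ι := fun a b h => heinj (germ_injective_of_isIntegral (Spec D) η (TopologicalSpace.Opens.mem_top η) h)
  have hbasic : ∀ g : D, ((Spec D).basicOpen (e g) : Set (Spec D)) = (PrimeSpectrum.zeroLocus {g})ᶜ := fun g => by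
    rw [basicOpen_eq_of_affine]
    exact PrimeSpectrum.basicOpen_eq_zeroLocus_compl g
  have hle : ∀ g ∈ I, (Spec D).basicOpen (e g) ≤ U := fun g hg => by
    intro x hx
    have h1 : x ∈ ((Spec D).basicOpen (e g) : Set (Spec D)) := hx
    rw [hbasic] at h1
    change x ∈ (U : Set (Spec D))
    rw [hI]
    exact fun hxI => h1 (PrimeSpectrum.zeroLocus_anti_mono (Set.singleton_subset_iff.2 hg) hxI)
  have hspan : Ideal.span ((res.comp e) '' (I : Set D)) = ⊤ := by
    rw [← hU.self_le_iSup_basicOpen_iff]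
    intro x hx
    have hxI : x ∉ PrimeSpectrum.zeroLocus (I : Set D) := (hI ▸ (show x ∈ (U : Set (Spec D)) from hx) :)
    change ¬ ((I : Set D) ⊆ (x.asIdeal : Set D)) at hxI
    rw [Set.not_subset] at hxI
    obtain ⟨g, hg, hgx⟩ := hxI
    refine TopologicalSpace.Opens.mem_iSup.2 ⟨⟨res (e g), g, hg, rfl⟩, ?_⟩
    rw [Scheme.basicOpen_res]
    refine ⟨hx, ?_⟩
    change x ∈ ((Spec D).basicOpen (e g) : Set (Spec D))
    rw [hbasic]
    exact fun h => hgx (h (Set.mem_singleton g))
  obtain ⟨n, b, a, hab⟩ := Submodule.mem_span_set'.1 (hspan.ge (Submodule.mem_top (x := (1 : Γ(Spec D, U)))))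
  choose f hfI hfa using fun j => (a j).2
  let γ : Γ(Spec D, U) →+* (Spec D).functionField := ((Spec D).presheaf.germ U η hηU).hom
  have hγ : ∀ d : D, γ (res (e d)) = ι d := fun d =>
    (Spec D).presheaf.germ_res_apply (homOfLE le_top) η hηU (e d)
  refine smul_top_of_family ι hι I f hfI (fun j => γ (b j)) ?_ fun j => ?_
  · have := congrArg γ hab
    rw [map_sum, map_one] at this
    refine Eq.trans (Finset.sum_congr rfl fun i _ => ?_) this
    show ι (f i) * γ (b i) = γ (b i * (a i : Γ(Spec D, U)))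
    rw [map_mul, ← hfa i, show γ ((res.comp e) (f i)) = ι (f i) from hγ (f i), mul_comm]
  let J : Ideal D :=
    { carrier := {x | ι x * γ (b j) ∈ ι.range}
      add_mem' := fun {x y} hx hy => by
        show ι (x + y) * _ ∈ ι.range
        rw [map_add, add_mul]; exact add_mem hx hy
      zero_mem' := ⟨0, by simp⟩
      smul_mem' := fun c x hx => by
        show ι (c * x) * _ ∈ ι.range
        rw [map_mul, mul_assoc]; exact mul_mem ⟨c, rfl⟩ hx }
  have hrad : I ≤ J.radical := by
    intro g hg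
    by_cases hempty : g = 0
    · subst hempty; exact zero_mem _
    let r := (Spec D).presheaf.map (homOfLE (hle g hg)).op
    haveI := (isAffineOpen_top (Spec D)).isLocalization_basicOpen (e g)
    obtain ⟨⟨d, _, k, rfl⟩, hd⟩ := IsLocalization.surj (M := Submonoid.powers (e g)) (r.hom (b j))
    obtain ⟨d, rfl⟩ := (Scheme.ΓSpecIso D).symm.commRingCatIsoToRingEquiv.surjective d
    have hηg : η ∈ (Spec D).basicOpen (e g) :=
      ((genericPoint_spec (Spec D)).mem_open_set_iff ((Spec D).basicOpen (e g)).isOpen).2 (by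
        rw [Set.univ_inter, hbasic]
        exact ⟨⟨⊥, Ideal.isPrime_bot⟩, fun h => hempty (h rfl)⟩)
    refine ⟨k, d, ?_⟩
    have h2 := congrArg ((Spec D).presheaf.germ ((Spec D).basicOpen (e g)) η hηg).hom hd
    rw [map_mul] at h2
    have h3 : ((Spec D).presheaf.germ ((Spec D).basicOpen (e g)) η hηg).hom (r.hom (b j)) = γ (b j) :=
      (Spec D).presheaf.germ_res_apply _ η hηg (b j)
    have h4 : ∀ t : Γ(Spec D, ⊤), ((Spec D).presheaf.germ ((Spec D).basicOpen (e g)) η hηg).hom
        (algebraMap Γ(Spec D, ⊤) Γ(Spec D, (Spec D).basicOpen (e g)) t) = ((Spec D).presheaf.germ ⊤ η (TopologicalSpace.Opens.mem_top η)).hom t :=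
      fun t => (Spec D).presheaf.germ_res_apply _ η hηg t
    rw [h3, h4, h4] at h2
    change ι d = ι (g ^ k) * γ (b j)
    rw [map_pow, mul_comm]
    refine h2.symm.trans ?_
    rw [map_pow]
    rfl
  obtain ⟨N, hN⟩ := Ideal.exists_pow_le_of_le_radical_of_fg hrad (IsNoetherian.noetherian I)
  exact ⟨N, fun x hx => hN hx⟩

/-- The general statement. -/
theorem height_le_one (A : CommRingCat.{u}) [IsNoetherianRing A] (U : (Spec A).Opens) (hU : IsAffineOpen U)
    (p : PrimeSpectrum A) (hpU : (p : Spec A) ∉ (U : Set (Spec A)))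
    (hmin : ∀ q : PrimeSpectrum A, q.asIdeal ≤ p.asIdeal → (q : Spec A) ∉ (U : Set (Spec A)) → q = p) :
    p.asIdeal.height ≤ 1 := by
  by_contra hcon
  rw [not_le, PrimeSpectrum.height_eq_orderHeight] at hcon
  have hfin : Order.height p < ⊤ := by
    rw [← PrimeSpectrum.height_eq_orderHeight]
    exact lt_of_le_of_ne le_top (Ideal.height_ne_top p.2.ne_top)
  obtain ⟨q, hqp, hq⟩ := (Order.coe_lt_height_iff hfin (n := 1)).1 (by exact_mod_cast hcon)
  obtain ⟨q₀, hq₀, -⟩ := (Order.coe_lt_height_iff (hq ▸ ENat.natCast_lt_top 1) (n := 0)).1 (by rw [hq]; simp)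
  have hq₀U : (q₀ : Spec A) ∈ (U : Set (Spec A)) := by
    by_contra h
    exact ((hq₀.trans hqp).ne (hmin q₀ (hq₀.trans hqp).le h))
  let D : CommRingCat.{u} := CommRingCat.of (A ⧸ q₀.asIdeal)
  haveI : IsDomain D := inferInstanceAs (IsDomain (A ⧸ q₀.asIdeal))
  haveI : IsNoetherianRing D := inferInstanceAs (IsNoetherianRing (A ⧸ q₀.asIdeal))
  let π : A ⟶ D := CommRingCat.ofHom (Ideal.Quotient.mk q₀.asIdeal)
  haveI : IsClosedImmersion (Spec.map π) := IsClosedImmersion.spec_of_surjective π Ideal.Quotient.mk_surjective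
  let U' := Spec.map π ⁻¹ᵁ U
  let Z : Set (PrimeSpectrum D) := (U' : Set (Spec D))ᶜ
  let I := PrimeSpectrum.vanishingIdeal Z
  have hI : (U' : Set (Spec D)) = (PrimeSpectrum.zeroLocus (I : Set D))ᶜ := by
    have hclosed : IsClosed Z := U'.isOpen.isClosed_compl
    rw [PrimeSpectrum.zeroLocus_vanishingIdeal_eq_closure, hclosed.closure_eq]
    exact (compl_compl _).symm
  have hker : ∀ r : PrimeSpectrum A, q₀.asIdeal ≤ r.asIdeal →
      ∃ r' : PrimeSpectrum D, r'.comap π.hom = r := fun r hr => by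
    have : r ∈ Set.range (PrimeSpectrum.comap π.hom) := by
      rw [range_comap_of_surjective _ π.hom Ideal.Quotient.mk_surjective]
      change RingHom.ker (Ideal.Quotient.mk q₀.asIdeal) ≤ r.asIdeal
      rwa [Ideal.mk_ker]
    exact this
  obtain ⟨p', hp'⟩ := hker p (hq₀.trans hqp).le
  obtain ⟨q', hq'⟩ := hker q hq₀.le
  have hne : Nonempty U' := by
    obtain ⟨b, hb⟩ := hker q₀ le_rfl
    exact ⟨⟨b, show Spec.map π b ∈ U by rw [show Spec.map π b = b.comap π.hom from rfl, hb]; exact hq₀U⟩⟩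
  have hp'Z : p' ∈ Z := fun h => hpU (hp' ▸ (h : Spec.map π p' ∈ U))
  have hp'min : p'.asIdeal ∈ I.minimalPrimes := by
    refine ⟨⟨p'.2, fun x hx => PrimeSpectrum.mem_vanishingIdeal _ _ |>.1 hx p' hp'Z⟩, fun J hJ hJp => ?_⟩
    let J' : PrimeSpectrum D := ⟨J, hJ.1⟩
    have hJZ : J' ∈ Z := by
      intro hJU
      rw [hI] at hJU
      exact hJU hJ.2
    have := hmin (J'.comap π.hom) (by rw [← hp']; exact Ideal.comap_mono hJp) hJZ
    rw [← hp'] at this
    exact (congrArg PrimeSpectrum.asIdeal (PrimeSpectrum.comap_injective_of_surjective _ Ideal.Quotient.mk_surjective this)).ge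
  have h1 := height_le_one_of_isDomain D U' (hU.preimage _) hne I hI p'.asIdeal hp'min
  have hlt : ∀ r s : PrimeSpectrum D, r.comap π.hom < s.comap π.hom → r.asIdeal < s.asIdeal := fun r s h =>
    lt_of_le_not_ge (fun x hx => by
        obtain ⟨x, rfl⟩ := Ideal.Quotient.mk_surjective x
        exact h.le (show x ∈ (r.comap π.hom).asIdeal from hx))
      (fun hle => h.not_ge (Ideal.comap_mono hle))
  have hq'p' := hlt q' p' (by rw [hp', hq']; exact hqp)
  have hq'ne : q'.asIdeal ≠ ⊥ := fun h => by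
    refine hq₀.ne (PrimeSpectrum.ext ?_)
    rw [← hq', PrimeSpectrum.comap_asIdeal, h, ← RingHom.ker_eq_comap_bot]
    exact (Ideal.mk_ker).symm
  haveI : p'.asIdeal.FiniteHeight := ⟨Or.inr (ne_top_of_le_ne_top ENat.one_ne_top h1)⟩
  haveI : q'.asIdeal.FiniteHeight := ⟨Or.inr (ne_top_of_le_ne_top ENat.one_ne_top ((Ideal.height_mono hq'p'.le).trans h1))⟩
  have h2 := lt_of_lt_of_le (Ideal.height_strict_mono_of_isPrime hq'p') h1
  rw [Order.lt_one_iff, Ideal.height_eq_zero_iff, IsDomain.minimalPrimes_eq_singleton_bot] at h2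
  exact hq'ne h2

end Groth.Agent.AffCompl97
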